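import Cfsg.Agent.FourTwo.Cent
import Cfsg.Agent.FourTwo.Classes
import Cfsg.Agent.OddHalf.D9.FFour.Def
import Cfsg.Agent.FourTwo.Lift

-- merged: Cfsg.Agent.OddHalf.D9.FFour.AutLL
section

/-!
# The automorphisms of `F₄(2)`

* `exists_aut`: every automorphism of `LL` is `conj g` or `conj g ∘ graph`.
-/

set_option autoImplicit false

namespace Cfsg.Agent.OddHalf.D9.FFour.AutLL

open Cfsg.Agent.ChevalleyStructure.TwF4.Rel (refl sp)
open Cfsg.Agent.ChevalleyStructure.TwF4.NRoot (sp_lt)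
open Cfsg.Agent.ChevalleyStructure.TwF4.Torus (all_of)
open Cfsg.Agent.FourTwo.Base Cfsg.Agent.FourTwo.Comm Cfsg.Agent.FourTwo.BN Cfsg.Agent.FourTwo.Par
  Cfsg.Agent.FourTwo.Cent

/-! ### `V' = RG negP` -/

/-- the negative roots -/
def negP (r : ℕ) : Bool := decide (r < 24)

theorem negP_iff {r : ℕ} : negP r = true ↔ r < 24 := decide_eq_true_iff

/-- the subgroup of the negative root elements -/
abbrev V' : Subgroup LL := RG negP

theorem V'_le : V' ≤ V := RG_le fun _ _ h => x_mem_V (negP_iff.1 h)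

theorem eq_one_of {g : LL} (h1 : g ∈ U) (h2 : g ∈ V') : g = 1 := by
  have h : g ∈ U ⊓ V := ⟨h1, V'_le h2⟩
  rw [U_inf_V, Subgroup.mem_bot] at h
  exact h

theorem conj_RG {w : LL} {P Q : ℕ → Bool} (h : ∀ r < 48, P r = true → w * x r * w⁻¹ ∈ RG Q) {g : LL} (hg : g ∈ RG P) :
    w * g * w⁻¹ ∈ RG Q := by
  have h1 : RG P ≤ (RG Q).comap (MulAut.conj w).toMonoidHom := RG_le fun r hr hP => by
    rw [Subgroup.mem_comap]
    exact h r hr hP
  have h2 := h1 hg
  rw [Subgroup.mem_comap] at h2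
  exact h2

theorem conj_RG' {w : LL} {P Q : ℕ → Bool} (h : ∀ r < 48, P r = true → w⁻¹ * x r * w ∈ RG Q) {g : LL} (hg : g ∈ RG P) :
    w⁻¹ * g * w ∈ RG Q := by
  have := conj_RG (w := w⁻¹) (P := P) (Q := Q) (by simpa using h) hg
  simpa using this

theorem w0_inv_conj {r : ℕ} (hr : r < 48) : w0⁻¹ * x r * w0 = x (47 - r) := by
  have h := w0_conj (show 47 - r < 48 by omega)
  rw [show 47 - (47 - r) = r by omega] at h
  rw [← h]
  group

theorem w0_U {g : LL} (hg : g ∈ U) : w0 * g * w0⁻¹ ∈ V' := by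
  rw [U_eq] at hg
  refine conj_RG (fun r hr h => ?_) hg
  rw [w0_conj hr]
  have : 24 ≤ r := of_decide_eq_true h
  exact x_mem_RG (by omega) (negP_iff.2 (by omega))

theorem w0_V {g : LL} (hg : g ∈ V') : w0⁻¹ * g * w0 ∈ U := by
  rw [U_eq]
  refine conj_RG' (fun r hr h => ?_) hg
  rw [w0_inv_conj hr]
  have := negP_iff.1 h
  exact x_mem_RG (by omega) (decide_eq_true (by omega))

theorem w0_U' {g : LL} (hg : g ∈ U) : w0⁻¹ * g * w0 ∈ V' := by
  rw [U_eq] at hg
  refine conj_RG' (fun r hr h => ?_) hg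
  rw [w0_inv_conj hr]
  have : 24 ≤ r := of_decide_eq_true h
  exact x_mem_RG (by omega) (negP_iff.2 (by omega))

theorem w0_V' {g : LL} (hg : g ∈ V') : w0 * g * w0⁻¹ ∈ U := by
  rw [U_eq]
  refine conj_RG (fun r hr h => ?_) hg
  rw [w0_conj hr]
  have := negP_iff.1 h
  exact x_mem_RG (by omega) (decide_eq_true (by omega))

/-! ### fixing `U` and `V'` -/

/-- The automorphism maps the subgroup onto itself. -/
def Fix (α : MulAut LL) (H : Subgroup LL) : Prop := ∀ g, α g ∈ H ↔ g ∈ H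

/-- for finite subgroups one inclusion suffices -/
theorem fix_of_le {α : MulAut LL} {H : Subgroup LL} (h : ∀ g ∈ H, α g ∈ H) : Fix α H := by
  have h1 : H.map α.toMonoidHom ≤ H := by
    rintro _ ⟨g, hg, rfl⟩
    exact h g hg
  have h2 : H.map α.toMonoidHom = H := by
    apply Subgroup.eq_of_le_of_card_ge h1
    rw [Subgroup.card_map_of_injective (f := α.toMonoidHom) α.injective]
  intro g
  constructor
  · intro hg
    rw [← h2] at hg
    obtain ⟨g', hg', e⟩ := hg
    have : g' = g := α.injective e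
    rwa [← this]
  · exact h g

theorem exists_fix_U (α : MulAut LL) : ∃ g : LL, Fix (MulAut.conj g * α) U := by
  have hQ : IsPGroup 2 (U.map α.toMonoidHom) := (Cfsg.Agent.FourTwo.Classes.isPGroup_UL).map _
  obtain ⟨y, hy⟩ := Cfsg.Agent.FourTwo.Classes.exists_conj_le hQ
  exact ⟨y, fix_of_le fun g hg => hy _ ⟨g, hg, rfl⟩⟩

theorem exists_fix_V {α : MulAut LL} (hα : Fix α U) : ∃ u ∈ U, Fix (MulAut.conj u * α) U ∧ Fix (MulAut.conj u * α) V' := by
  obtain ⟨u, hu, w, hw, v, hv, e⟩ := bruhat (α w0)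
  obtain ⟨σ, -, -, hσ⟩ := exists_perm hw
  have key : ∀ r, 24 ≤ r → ∀ hr : r < 48, (σ ⟨r, hr⟩).val < 24 := by
    intro r h24 hr
    by_contra hcon
    have h1 := hσ ⟨r, hr⟩
    set s := (σ ⟨r, hr⟩).val with hs
    have hs48 : s < 48 := (σ ⟨r, hr⟩).2
    have hy : u * x s * u⁻¹ ∈ U := mul_mem (mul_mem hu (x_mem_U (by omega) hs48)) (inv_mem hu)
    -- `t ∈ U` with `α t = v⁻¹ x_r v`
    have ht : α⁻¹ (v⁻¹ * x r * v) ∈ U := by
      rw [← hα, MulAut.apply_inv_self]
      exact mul_mem (mul_mem (inv_mem hv) (x_mem_U h24 hr)) hv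
    have e1 : α (w0 * α⁻¹ (v⁻¹ * x r * v) * w0⁻¹) = u * x s * u⁻¹ := by
      rw [map_mul, map_mul, map_inv, MulAut.apply_inv_self, e, ← h1]
      show u * w * v * (v⁻¹ * x r * v) * (u * w * v)⁻¹ = u * (w * x r * w⁻¹) * u⁻¹
      group
    have h2 : w0 * α⁻¹ (v⁻¹ * x r * v) * w0⁻¹ ∈ U := by
      rw [← hα, e1]
      exact hy
    have h3 := eq_one_of h2 (w0_U ht)
    rw [h3, map_one] at e1
    have h4 : x s = 1 := by
      have : x s = u⁻¹ * (u * x s * u⁻¹) * u := by group
      rw [this, ← e1]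
      group
    exact x_ne_one hs48 h4
  have hU' : Fix (MulAut.conj u⁻¹ * α) U := fix_of_le fun g hg => by
    show u⁻¹ * α g * u⁻¹⁻¹ ∈ U
    exact mul_mem (mul_mem (inv_mem hu) ((hα g).2 hg)) (inv_mem (inv_mem hu))
  refine ⟨u⁻¹, inv_mem hu, hU', fix_of_le fun g hg => ?_⟩
  have ht := w0_V hg
  have e2 : g = w0 * (w0⁻¹ * g * w0) * w0⁻¹ := by group
  rw [e2]
  generalize w0⁻¹ * g * w0 = t at ht
  show u⁻¹ * α (w0 * t * w0⁻¹) * u⁻¹⁻¹ ∈ V'
  rw [map_mul, map_mul, map_inv, e]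
  have e3 : u⁻¹ * (u * w * v * α t * (u * w * v)⁻¹) * u⁻¹⁻¹ = w * (v * α t * v⁻¹) * w⁻¹ := by group
  rw [e3]
  have h5 : v * α t * v⁻¹ ∈ U := mul_mem (mul_mem hv ((hα t).2 ht)) (inv_mem hv)
  rw [U_eq] at h5
  refine conj_RG (fun r hr h => ?_) h5
  have h24 : 24 ≤ r := of_decide_eq_true h
  rw [show w * x r * w⁻¹ = x (σ ⟨r, hr⟩).val from hσ ⟨r, hr⟩]
  exact x_mem_RG (σ ⟨r, hr⟩).2 (negP_iff.2 (key r h24 hr))

/-! ### minimal parabolics -/

/-- the roots of the minimal parabolic subgroup -/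
def pj (a : ℕ) (r : ℕ) : Bool := decide (24 ≤ r) || r == 47 - a

/-- its unipotent radical -/
def uj (a : ℕ) (r : ℕ) : Bool := decide (24 ≤ r) && !(r == a)

/-- its Levi factor -/
def lj (a : ℕ) (r : ℕ) : Bool := r == a || r == 47 - a

theorem norm_tab : ∀ i < 4, normB (lj (sp i)) (uj (sp i)) = true := by decide +kernel

theorem closed_tab : ∀ i < 4, closedB (uj (sp i)) = true := by decide +kernel

theorem sp_ge {i : ℕ} : 24 ≤ sp i := by
  unfold sp
  split <;> omega

theorem sp_lt' {i : ℕ} : sp i < 48 := by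
  unfold sp
  split <;> omega

/-- the six elements of the Levi factor -/
def Six (a : ℕ) (s : LL) : Prop :=
  s = 1 ∨ s = x a ∨ s = x (47 - a) ∨ s = x a * x (47 - a) ∨ s = x (47 - a) * x a ∨ s = x a * x (47 - a) * x a

theorem Six.mem {a : ℕ} (ha : a < 48) {s : LL} (hs : Six a s) : s ∈ RG (lj a) := by
  have h1 : x a ∈ RG (lj a) := x_mem_RG ha (by simp [lj])
  have h2 : x (47 - a) ∈ RG (lj a) := x_mem_RG (by omega) (by simp [lj])
  rcases hs with rfl | rfl | rfl | rfl | rfl | rfl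
  · exact one_mem _
  · exact h1
  · exact h2
  · exact mul_mem h1 h2
  · exact mul_mem h2 h1
  · exact mul_mem (mul_mem h1 h2) h1

theorem Six.mul_left {a : ℕ} {s : LL} (hs : Six a s) : Six a (x a * s) := by
  unfold Six
  rcases hs with rfl | rfl | rfl | rfl | rfl | rfl
  · simp
  · left; exact x_mul_self a
  · simp
  · right; right; left; rw [← mul_assoc, x_mul_self, one_mul]
  · right; right; right; right; right; rw [← mul_assoc]
  · right; right; right; right; left
    rw [← mul_assoc, ← mul_assoc, x_mul_self, one_mul]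

theorem Six.mul_left' {a : ℕ} (ha : a < 48) {s : LL} (hs : Six a s) : Six a (x (47 - a) * s) := by
  have hb := opp_all ha
  unfold Six
  rcases hs with rfl | rfl | rfl | rfl | rfl | rfl
  · simp
  · simp
  · left; exact x_mul_self _
  · right; right; right; right; right
    rw [← mul_assoc, ← hb]
  · right; left; rw [← mul_assoc, x_mul_self, one_mul]
  · right; right; right; left
    rw [hb, ← mul_assoc, ← mul_assoc, x_mul_self, one_mul]

theorem pj_split {i : ℕ} (hi : i < 4) {g : LL} (hg : g ∈ RG (pj (sp i))) :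
    ∃ s u : LL, Six (sp i) s ∧ u ∈ RG (uj (sp i)) ∧ g = s * u := by
  have ha := sp_lt' (i := i)
  have step : ∀ r < 48, pj (sp i) r = true → ∀ y : LL, (∃ s u : LL, Six (sp i) s ∧ u ∈ RG (uj (sp i)) ∧ y = s * u) →
      ∃ s u : LL, Six (sp i) s ∧ u ∈ RG (uj (sp i)) ∧ x r * y = s * u := by
    rintro r hr hr' _ ⟨s, u, hs, hu, rfl⟩
    by_cases h1 : r = sp i
    · subst h1
      exact ⟨_, u, hs.mul_left, hu, by rw [mul_assoc]⟩
    by_cases h2 : r = 47 - sp i
    · subst h2
      exact ⟨_, u, hs.mul_left' ha, hu, by rw [mul_assoc]⟩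
    · have h3 : 24 ≤ r := by
        unfold pj at hr'
        rw [Bool.or_eq_true, decide_eq_true_iff, beq_iff_eq] at hr'
        exact hr'.resolve_right h2
      have h4 : x r ∈ RG (uj (sp i)) := x_mem_RG hr (by simp [uj, h3, h1])
      have h5 := conj_mem (norm_tab i hi) (inv_mem (hs.mem ha)) h4
      rw [inv_inv] at h5
      refine ⟨s, s⁻¹ * x r * s * u, hs, mul_mem h5 hu, by group⟩
  refine Subgroup.closure_induction_left
    (p := fun (g : LL) _ => ∃ s u : LL, Six (sp i) s ∧ u ∈ RG (uj (sp i)) ∧ g = s * u) ?_ ?_ ?_ hg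
  · exact ⟨1, 1, Or.inl rfl, one_mem _, by simp⟩
  · rintro _ ⟨r, hr, hr', rfl⟩ y _ hy
    exact step r hr hr' y hy
  · rintro _ ⟨r, hr, hr', rfl⟩ y _ hy
    rw [x_inv]
    exact step r hr hr' y hy

/-- `P_i ∩ V' = ⟨x_{-p_i}⟩` -/
theorem pj_inf_V {i : ℕ} (hi : i < 4) {g : LL} (hg : g ∈ RG (pj (sp i))) (hV : g ∈ V') : g = 1 ∨ g = x (47 - sp i) := by
  have ha := sp_lt' (i := i)
  have ha' := sp_ge (i := i)
  have hN := norm_tab i hi
  have hcl := closed_tab i hi
  obtain ⟨s, u, hs, hu, rfl⟩ := pj_split hi hg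
  clear hg
  generalize sp i = a at *
  have hb := opp_all ha
  have hUle : RG (uj a) ≤ U := RG_le_U hcl
  have hy : x (47 - a) ∈ V' := x_mem_RG (by omega) (negP_iff.2 (by omega))
  have hyl : x (47 - a) ∈ RG (lj a) := x_mem_RG (by omega) (by simp [lj])
  have hno : x a ∉ RG (uj a) := by
    rw [x_mem_RG_iff hcl ha]
    simp [uj]
  have hxU : x a ∈ U := x_mem_U ha' ha
  -- an element `x_a u` in `V'` is impossible
  have imp : ∀ u ∈ RG (uj a), x a * u ∉ V' := by
    intro u hu h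
    have h1 := eq_one_of (mul_mem hxU (hUle hu)) h
    apply hno
    rw [eq_inv_of_mul_eq_one_left h1]
    exact inv_mem hu
  rcases hs with rfl | rfl | rfl | rfl | rfl | rfl
  · left
    rw [one_mul] at hV ⊢
    exact eq_one_of (hUle hu) hV
  · exact absurd hV (imp u hu)
  · right
    have h1 : u ∈ V' := by
      have := mul_mem (inv_mem hy) hV
      rwa [← mul_assoc, inv_mul_cancel, one_mul] at this
    rw [eq_one_of (hUle hu) h1, mul_one]
  · exfalso
    have h2 := conj_mem hN hyl hu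
    apply imp _ h2
    have h3 := mul_mem hV (inv_mem hy)
    have e : x a * (x (47 - a) * u * (x (47 - a))⁻¹) = x a * x (47 - a) * u * (x (47 - a))⁻¹ := by group
    rw [e]
    exact h3
  · exfalso
    apply imp u hu
    have h3 := mul_mem (inv_mem hy) hV
    have e : (x (47 - a))⁻¹ * (x (47 - a) * x a * u) = x a * u := by group
    rwa [e] at h3
  · exfalso
    rw [hb] at hV
    have h2 := conj_mem hN hyl hu
    apply imp _ h2
    have h3 := mul_mem (mul_mem (inv_mem hy) hV) (inv_mem hy)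
    have e : x a * (x (47 - a) * u * (x (47 - a))⁻¹) =
        (x (47 - a))⁻¹ * (x (47 - a) * x a * x (47 - a) * u) * (x (47 - a))⁻¹ := by group
    rw [e]
    exact h3

/-! ### the images of the simple root elements -/

theorem U_le_pj (a : ℕ) : U ≤ RG (pj a) := by
  rw [U_eq]
  refine RG_mono fun r _ h => ?_
  have h24 : decide (24 ≤ r) = true := h
  unfold pj
  rw [h24, Bool.true_or]

theorem y_mem_pj (i : ℕ) : x (47 - sp i) ∈ RG (pj (sp i)) := by
  have := sp_lt' (i := i)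
  exact x_mem_RG (by omega) (by simp [pj])

theorem n_mem_pj {i : ℕ} (hi : i < 4) : n i ∈ RG (pj (sp i)) :=
  n_mem_RG hi (by simp [pj, sp_ge]) (by simp [pj])

theorem refl_sp : ∀ i < 4, refl i (sp i) = 47 - sp i := by decide

theorem sp_inj : ∀ i < 4, ∀ j < 4, sp i = sp j → i = j := by decide

theorem n_conj_sp {i : ℕ} (hi : i < 4) : n i * x (sp i) * (n i)⁻¹ = x (47 - sp i) := by
  rw [n_conj hi sp_lt', refl_sp i hi]

theorem eq_of_n_mem {i j : ℕ} (hi : i < 4) (hj : j < 4) (h : n j ∈ RG (pj (sp i))) : j = i := by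
  have h0 := sp_ge (i := j)
  have h0' := sp_lt' (i := j)
  have h1 : x (47 - sp j) ∈ RG (pj (sp i)) := by
    rw [← n_conj_sp hj]
    exact mul_mem (mul_mem h (U_le_pj _ (x_mem_U h0 h0'))) (inv_mem h)
  rcases pj_inf_V hi h1 (x_mem_RG (by omega) (negP_iff.2 (by omega))) with h2 | h2
  · exact absurd h2 (x_ne_one (by omega))
  · have h3 := x_inj (by omega) (by have := sp_lt' (i := i); omega) h2
    have h4 := sp_lt' (i := i)
    exact sp_inj j hj i hi (by omega)

/-- proper overgroups of `U` contain a minimal parabolic subgroup -/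
theorem exists_pj_le {H : Subgroup LL} (hU : U ≤ H) (hne : H ≠ U) : ∃ i < 4, RG (pj (sp i)) ≤ H := by
  by_contra hcon
  push Not at hcon
  apply hne
  rw [parabolic_eq hU]
  apply le_antisymm _ le_sup_left
  refine sup_le le_rfl ?_
  rw [Subgroup.closure_le]
  rintro _ ⟨i, hi, hn, rfl⟩
  exfalso
  apply hcon i hi
  refine RG_le fun r hr h => ?_
  unfold pj at h
  rw [Bool.or_eq_true, decide_eq_true_iff, beq_iff_eq] at h
  rcases h with h | rfl
  · exact hU (x_mem_U h hr)
  · rw [← n_conj_sp hi]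
    exact mul_mem (mul_mem hn (hU (x_mem_U sp_ge sp_lt'))) (inv_mem hn)

theorem y_not_mem_U (i : ℕ) : x (47 - sp i) ∉ U := by
  intro h
  have h1 := pos_of_mem_U (by omega) h
  have := sp_ge (i := i)
  omega

theorem img {α : MulAut LL} (hα : Fix α U) {i : ℕ} (hi : i < 4) :
    ∃ j < 4, ∀ g, g ∈ RG (pj (sp i)) ↔ α g ∈ RG (pj (sp j)) := by
  have hU : U ≤ (RG (pj (sp i))).comap (α⁻¹).toMonoidHom := fun g hg => by
    have h1 : α⁻¹ g ∈ U := by
      rw [← hα, MulAut.apply_inv_self]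
      exact hg
    exact U_le_pj _ h1
  have hne : (RG (pj (sp i))).comap (α⁻¹).toMonoidHom ≠ U := by
    intro h
    have h1 : α (x (47 - sp i)) ∈ (RG (pj (sp i))).comap (α⁻¹).toMonoidHom := by
      have h2 : α⁻¹ (α (x (47 - sp i))) ∈ RG (pj (sp i)) := by
        rw [MulAut.inv_apply_self]
        exact y_mem_pj i
      exact h2
    rw [h, hα] at h1
    exact y_not_mem_U i h1
  obtain ⟨j, hj, hle⟩ := exists_pj_le hU hne
  refine ⟨j, hj, ?_⟩
  -- the other inclusion
  have hU' : U ≤ (RG (pj (sp j))).comap α.toMonoidHom := fun g hg => U_le_pj _ ((hα g).2 hg)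
  have hne' : (RG (pj (sp j))).comap α.toMonoidHom ≠ U := by
    intro h
    have h1 : α⁻¹ (x (47 - sp j)) ∈ (RG (pj (sp j))).comap α.toMonoidHom := by
      have h2 : α (α⁻¹ (x (47 - sp j))) ∈ RG (pj (sp j)) := by
        rw [MulAut.apply_inv_self]
        exact y_mem_pj j
      exact h2
    rw [h, ← hα, MulAut.apply_inv_self] at h1
    exact y_not_mem_U j h1
  obtain ⟨k, hk, hle'⟩ := exists_pj_le hU' hne'
  have h1 : n k ∈ RG (pj (sp i)) := by
    have h2 : α (n k) ∈ RG (pj (sp j)) := hle' (n_mem_pj hk)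
    have h3 : α⁻¹ (α (n k)) ∈ RG (pj (sp i)) := hle h2
    rwa [MulAut.inv_apply_self] at h3
  have hki := eq_of_n_mem hi hk h1
  subst hki
  intro g
  constructor
  · exact fun hg => hle' hg
  · intro hg
    have h3 : α⁻¹ (α g) ∈ RG (pj (sp k)) := hle hg
    rwa [MulAut.inv_apply_self] at h3

theorem imgV {α : MulAut LL} (hα : Fix α U) (hV : Fix α V') {i : ℕ} (hi : i < 4) :
    ∃ j < 4, α (x (47 - sp i)) = x (47 - sp j) := by
  obtain ⟨j, hj, h⟩ := img hα hi
  have h0 := sp_ge (i := i)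
  have h0' := sp_lt' (i := i)
  refine ⟨j, hj, (pj_inf_V hj ((h _).1 (y_mem_pj i)) ((hV _).2 (x_mem_RG (by omega) (negP_iff.2 (by omega))))).resolve_left ?_⟩
  intro h1
  have h2 : x (47 - sp i) = 1 := α.injective (by rw [h1, map_one])
  exact x_ne_one (by omega) h2

theorem comm_tab : ∀ i < 4, ∀ j < 4, i ≠ j → cmg (sp i) (47 - sp j) = [] := by decide +kernel

theorem comm_opp {i j : ℕ} (hi : i < 4) (hj : j < 4) (hij : i ≠ j) :
    x (sp i) * x (47 - sp j) = x (47 - sp j) * x (sp i) := by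
  have h1 := sp_lt' (i := i)
  have h2 := sp_lt' (i := j)
  refine comm_one h1 (by omega) ?_ (comm_tab i hi j hj hij)
  intro h
  exact hij (sp_inj i hi j hj (by omega))

theorem not_comm_opp {i : ℕ} : x (sp i) * x (47 - sp i) ≠ x (47 - sp i) * x (sp i) := by
  have h1 := sp_lt' (i := i)
  have h2 := sp_ge (i := i)
  intro h
  have h3 := opp_all h1
  rw [h, mul_assoc, x_mul_self, mul_one, ← h, mul_assoc, x_mul_self, mul_one] at h3
  have := x_inj (by omega) h1 h3
  omega

theorem both {α : MulAut LL} (hα : Fix α U) (hV : Fix α V') {i : ℕ} (hi : i < 4) :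
    ∃ j < 4, α (x (sp i)) = x (sp j) ∧ α (x (47 - sp i)) = x (47 - sp j) := by
  have h0 := sp_ge (i := i)
  have h0' := sp_lt' (i := i)
  obtain ⟨j, hj, h1⟩ := imgV hα hV hi
  have hU2 : Fix (MulAut.conj w0⁻¹ * α * MulAut.conj w0) U := fix_of_le fun g hg => by
    show w0⁻¹ * α (w0 * g * w0⁻¹) * w0⁻¹⁻¹ ∈ U
    rw [inv_inv]
    exact w0_V ((hV _).2 (w0_U hg))
  have hV2 : Fix (MulAut.conj w0⁻¹ * α * MulAut.conj w0) V' := fix_of_le fun g hg => by
    show w0⁻¹ * α (w0 * g * w0⁻¹) * w0⁻¹⁻¹ ∈ V'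
    rw [inv_inv]
    exact w0_U' ((hα _).2 (w0_V' hg))
  obtain ⟨k, hk, h2⟩ := imgV hU2 hV2 hi
  have h2' : w0⁻¹ * α (w0 * x (47 - sp i) * w0⁻¹) * w0⁻¹⁻¹ = x (47 - sp k) := h2
  rw [w0_conj (by omega), show 47 - (47 - sp i) = sp i by omega, inv_inv] at h2'
  have h3 : α (x (sp i)) = x (sp k) := by
    have h4 := w0_conj (show 47 - sp k < 48 by omega)
    have h5 := sp_lt' (i := k)
    rw [show 47 - (47 - sp k) = sp k by omega, ← h2'] at h4
    rw [← h4]
    group
  have hjk : k = j := by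
    by_contra hne
    apply not_comm_opp (i := i)
    apply α.injective
    rw [map_mul, map_mul, h3, h1]
    exact comm_opp hk hj hne
  subst hjk
  exact ⟨k, hk, h3, h1⟩

/-- adjacency in the diagram -/
def adj (i j : ℕ) : Bool := i + 1 == j || j + 1 == i

theorem nadj_tab : ∀ i < 4, ∀ j < 4, i ≠ j → adj i j = false → cmg (sp i) (sp j) = [] := by decide +kernel

theorem comm_of_nadj {i j : ℕ} (hi : i < 4) (hj : j < 4) (h : adj i j = false) :
    x (sp i) * x (sp j) = x (sp j) * x (sp i) := by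
  by_cases hij : i = j
  · rw [hij]
  · have h1 := sp_ge (i := i)
    have h2 := sp_ge (i := j)
    exact comm_one sp_lt' sp_lt' (by omega) (nadj_tab i hi j hj hij h)

theorem wd_ne {r s : ℕ} (hr : r < 48) (hs : s < 48) (h1 : r ≠ s) (h2 : r + s ≠ 47) (h : wd (cmg r s) ≠ 1) :
    x r * x s ≠ x s * x r := by
  intro hc
  apply h
  have h3 := comm_all hr hs h1 h2
  rw [hc, mul_assoc] at h3
  have h4 := mul_left_cancel h3
  calc wd (cmg r s) = wd (cmg r s) * x r * (x r)⁻¹ := by group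
    _ = 1 := by rw [← h4]; group

theorem ncomm_of_adj : ∀ i < 4, ∀ j < 4, adj i j = true → x (sp i) * x (sp j) ≠ x (sp j) * x (sp i) := by
  have a1 : x 33 * x 27 ≠ x 27 * x 33 := by
    refine wd_ne (by omega) (by omega) (by omega) (by omega) ?_
    rw [show cmg 33 27 = [34] by decide +kernel, wd_one]
    exact x_ne_one (by omega)
  have a2 : x 27 * x 25 ≠ x 25 * x 27 := by
    refine wd_ne (by omega) (by omega) (by omega) (by omega) ?_
    rw [show cmg 27 25 = [28, 30] by decide +kernel, wd_cons, wd_one]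
    intro h
    have h1 : x 28 = x 30 := by rw [← x_inv 30]; exact eq_inv_of_mul_eq_one_left h
    have := x_inj (by omega) (by omega) h1
    omega
  have a3 : x 25 * x 24 ≠ x 24 * x 25 := by
    refine wd_ne (by omega) (by omega) (by omega) (by omega) ?_
    rw [show cmg 25 24 = [26] by decide +kernel, wd_one]
    exact x_ne_one (by omega)
  intro i hi j hj h
  have tab : ∀ i < 4, ∀ j < 4, adj i j = true → (i = 0 ∧ j = 1) ∨ (i = 1 ∧ j = 0) ∨ (i = 1 ∧ j = 2) ∨
      (i = 2 ∧ j = 1) ∨ (i = 2 ∧ j = 3) ∨ (i = 3 ∧ j = 2) := by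
    intro i hi j hj h
    unfold adj at h
    rw [Bool.or_eq_true, beq_iff_eq, beq_iff_eq] at h
    omega
  have s0 : sp 0 = 33 := rfl
  have s1 : sp 1 = 27 := rfl
  have s2 : sp 2 = 25 := rfl
  have s3 : sp 3 = 24 := rfl
  rcases tab i hi j hj h with ⟨rfl, rfl⟩ | ⟨rfl, rfl⟩ | ⟨rfl, rfl⟩ | ⟨rfl, rfl⟩ | ⟨rfl, rfl⟩ | ⟨rfl, rfl⟩
  · rw [s0, s1]; exact a1
  · rw [s0, s1]; exact a1.symm
  · rw [s1, s2]; exact a2
  · rw [s1, s2]; exact a2.symm
  · rw [s2, s3]; exact a3
  · rw [s2, s3]; exact a3.symm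

theorem path_tab' : ((List.range 4).all fun a => (List.range 4).all fun b => (List.range 4).all fun c =>
    (List.range 4).all fun d => !(adj a b && (adj b c && (adj c d && (!(a == c) && !(b == d))))) ||
      ((a == 0 && (b == 1 && (c == 2 && d == 3))) || (a == 3 && (b == 2 && (c == 1 && d == 0))))) = true := by
  decide +kernel

theorem path_tab (a : ℕ) (ha : a < 4) (b : ℕ) (hb : b < 4) (c : ℕ) (hc : c < 4) (d : ℕ) (hd : d < 4)
    (h1 : adj a b = true) (h2 : adj b c = true) (h3 : adj c d = true)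
    (h4 : a ≠ c) (h5 : b ≠ d) : (a = 0 ∧ b = 1 ∧ c = 2 ∧ d = 3) ∨ (a = 3 ∧ b = 2 ∧ c = 1 ∧ d = 0) := by
  have h := path_tab'
  simp only [List.all_eq_true, List.mem_range] at h
  have h6 := h a ha b hb c hc d hd
  simpa [h1, h2, h3, h4, h5] using h6

/-- the exceptional graph automorphism -/
noncomputable def gr : MulAut LL := exists_graph.choose

theorem gr_x {r : ℕ} (hr : r < 48) : gr (x r) = x (bar r) := exists_graph.choose_spec r hr

theorem diag {α : MulAut LL} (hα : Fix α U) (hV : Fix α V') :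
    (∀ i < 4, α (x (sp i)) = x (sp i) ∧ α (x (47 - sp i)) = x (47 - sp i)) ∨
      (∀ i < 4, α (x (sp i)) = x (bar (sp i)) ∧ α (x (47 - sp i)) = x (bar (47 - sp i))) := by
  obtain ⟨a, ha, ha1, ha2⟩ := both hα hV (i := 0) (by omega)
  obtain ⟨b, hb, hb1, hb2⟩ := both hα hV (i := 1) (by omega)
  obtain ⟨c, hc, hc1, hc2⟩ := both hα hV (i := 2) (by omega)
  obtain ⟨d, hd, hd1, hd2⟩ := both hα hV (i := 3) (by omega)
  have hadj : ∀ i < 4, ∀ j < 4, adj i j = true → ∀ k < 4, ∀ l < 4, α (x (sp i)) = x (sp k) →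
      α (x (sp j)) = x (sp l) → adj k l = true := by
    intro i hi j hj hij k hk l hl e1 e2
    by_contra hcon
    rw [Bool.not_eq_true] at hcon
    apply ncomm_of_adj i hi j hj hij
    apply α.injective
    rw [map_mul, map_mul, e1, e2]
    exact comm_of_nadj hk hl hcon
  have hne : ∀ i < 4, ∀ j < 4, i ≠ j → ∀ k < 4, ∀ l < 4, α (x (sp i)) = x (sp k) →
      α (x (sp j)) = x (sp l) → k ≠ l := by
    intro i hi j hj hij k hk l hl e1 e2 hkl
    subst hkl
    exact hij (sp_inj i hi j hj (x_inj sp_lt' sp_lt' (α.injective (e1.trans e2.symm))))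
  rcases path_tab a ha b hb c hc d hd (hadj 0 (by omega) 1 (by omega) (by decide) a ha b hb ha1 hb1)
    (hadj 1 (by omega) 2 (by omega) (by decide) b hb c hc hb1 hc1)
    (hadj 2 (by omega) 3 (by omega) (by decide) c hc d hd hc1 hd1)
    (hne 0 (by omega) 2 (by omega) (by omega) a ha c hc ha1 hc1)
    (hne 1 (by omega) 3 (by omega) (by omega) b hb d hd hb1 hd1) with ⟨rfl, rfl, rfl, rfl⟩ | ⟨rfl, rfl, rfl, rfl⟩
  · left
    intro i hi
    interval_cases i
    · exact ⟨ha1, ha2⟩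
    · exact ⟨hb1, hb2⟩
    · exact ⟨hc1, hc2⟩
    · exact ⟨hd1, hd2⟩
  · right
    intro i hi
    interval_cases i
    · exact ⟨ha1, ha2⟩
    · exact ⟨hb1, hb2⟩
    · exact ⟨hc1, hc2⟩
    · exact ⟨hd1, hd2⟩

/-- words carrying the simple roots to all roots -/
def wtab : List (ℕ × List ℕ) :=
  [(2, [3, 2, 1, 2, 3, 0, 1, 2]), (2, [2, 1, 2, 3, 0, 1, 2]), (2, [1, 2, 3, 0, 1, 2]), (0, [0, 1, 2, 3, 1, 2, 1, 0]),
    (2, [2, 3, 0, 1, 2]), (2, [3, 0, 1, 2]), (2, [0, 1, 2]), (0, [1, 2, 3, 1, 2, 1, 0]), (0, [2, 3, 1, 2, 1, 0]),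
    (0, [3, 1, 2, 1, 0]), (0, [1, 2, 1, 0]), (0, [3, 2, 1, 0]), (0, [2, 1, 0]), (0, [1, 0]), (0, [0]),
    (2, [2, 3, 1, 2]), (2, [3, 1, 2]), (2, [1, 2]), (1, [3, 2, 1]), (1, [2, 1]), (1, [1]), (2, [3, 2]), (2, [2]),
    (3, [3]), (3, []), (2, []), (2, [3]), (1, []), (1, [2]), (1, [3, 2]), (2, [1]), (2, [3, 1]), (2, [2, 3, 1]),
    (0, []), (0, [1]), (0, [2, 1]), (0, [3, 2, 1]), (0, [1, 2, 1]), (0, [3, 1, 2, 1]), (0, [2, 3, 1, 2, 1]),
    (0, [1, 2, 3, 1, 2, 1]), (2, [0, 1]), (2, [3, 0, 1]), (2, [2, 3, 0, 1]), (0, [0, 1, 2, 3, 1, 2, 1]),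
    (2, [1, 2, 3, 0, 1]), (2, [2, 1, 2, 3, 0, 1]), (2, [3, 2, 1, 2, 3, 0, 1])]

theorem wtab_ok : ((List.range 48).all fun r => match wtab.getD r (0, []) with
    | (i, w) => decide (i < 4) && w.all (fun j => decide (j < 4)) && (act w (sp i) == r)) = true := by decide +kernel

theorem exists_word {r : ℕ} (hr : r < 48) : ∃ i < 4, ∃ w : List ℕ, (∀ j ∈ w, j < 4) ∧
    x r = nw w * x (sp i) * (nw w)⁻¹ := by
  have h := wtab_ok
  rw [List.all_eq_true] at h
  have h1 := h r (List.mem_range.2 hr)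
  generalize wtab.getD r (0, []) = p at h1
  obtain ⟨i, w⟩ := p
  simp only [Bool.and_eq_true, decide_eq_true_eq, List.all_eq_true, beq_iff_eq] at h1
  refine ⟨i, h1.1.1, w, h1.1.2, ?_⟩
  rw [nw_conj h1.1.2 sp_lt', h1.2]

/-- two automorphisms which agree on the simple root elements and their opposites are equal -/
theorem eq_of_simple {α β : MulAut LL}
    (h : ∀ i < 4, α (x (sp i)) = β (x (sp i)) ∧ α (x (47 - sp i)) = β (x (47 - sp i))) : α = β := by
  set H : Subgroup LL := (α.toMonoidHom).eqLocus β.toMonoidHom with hH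
  have hx : ∀ i < 4, x (sp i) ∈ H := fun i hi => (h i hi).1
  have hy : ∀ i < 4, x (47 - sp i) ∈ H := fun i hi => (h i hi).2
  have hn : ∀ i < 4, n i ∈ H := by
    intro i hi
    rw [n_eq_wd, wd_cons, wd_cons, wd_one]
    exact mul_mem (hx i hi) (mul_mem (hy i hi) (hx i hi))
  have hnw : ∀ w : List ℕ, (∀ j ∈ w, j < 4) → nw w ∈ H := by
    intro w
    induction w with
    | nil => exact fun _ => one_mem _
    | cons j w ih =>
      intro hw
      have e : nw (j :: w) = n j * nw w := by simp [nw]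
      rw [e]
      exact mul_mem (hn j (hw j List.mem_cons_self)) (ih fun k hk => hw k (List.mem_cons_of_mem _ hk))
  have htop : H = ⊤ := by
    rw [eq_top_iff, ← closure_x, Subgroup.closure_le]
    rintro _ ⟨r, hr, rfl⟩
    obtain ⟨i, hi, w, hw, e⟩ := exists_word hr
    rw [e]
    exact mul_mem (mul_mem (hnw w hw) (hx i hi)) (inv_mem (hnw w hw))
  ext1 g
  have hg : g ∈ H := by rw [htop]; exact Subgroup.mem_top g
  exact hg

/-- an automorphism is determined by the root elements -/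
theorem eq_of_x {α β : MulAut LL} (h : ∀ r < 48, α (x r) = β (x r)) : α = β :=
  eq_of_simple fun i _ => ⟨h _ sp_lt', h _ (by have := sp_lt' (i := i); omega)⟩

/-- **The automorphisms of `F₄(2)`.** -/
theorem exists_aut (α : MulAut LL) : ∃ g : LL, α = MulAut.conj g ∨ α = MulAut.conj g * gr := by
  obtain ⟨g, hg⟩ := exists_fix_U α
  obtain ⟨u, -, hU, hV⟩ := exists_fix_V hg
  refine ⟨(u * g)⁻¹, ?_⟩
  have e : MulAut.conj (u * g)⁻¹ * (MulAut.conj u * (MulAut.conj g * α)) = α := by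
    rw [← mul_assoc (MulAut.conj u), ← map_mul, map_inv, inv_mul_cancel_left]
  rcases diag hU hV with h | h
  · left
    have h1 : MulAut.conj u * (MulAut.conj g * α) = 1 := eq_of_simple fun i hi => h i hi
    rw [h1, mul_one] at e
    exact e.symm
  · right
    have h1 : MulAut.conj u * (MulAut.conj g * α) = gr := eq_of_simple fun i hi => by
      have h2 := sp_lt' (i := i)
      rw [gr_x h2, gr_x (by omega)]
      exact h i hi
    rw [h1] at e
    exact e.symm

theorem gr_gr : gr * gr = 1 := eq_of_x fun r hr => by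
  show gr (gr (x r)) = x r
  rw [gr_x hr, gr_x (bar_lt hr), bar_bar hr]

end Cfsg.Agent.OddHalf.D9.FFour.AutLL

end

-- merged: Cfsg.Agent.OddHalf.D9.FFour.HOne
section

/-!
# The outer involutions of `Aut(F₄(2))`

* `exists_coboundary`: `g ∈ U`, `g * gr g = 1` implies `g = h * (gr h)⁻¹`;
* `exists_conj_gr`: an automorphism of order two which is not inner is conjugate to `gr` (by inner automorphisms).
-/

set_option autoImplicit false

namespace Cfsg.Agent.OddHalf.D9.FFour.HOne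

open Cfsg.Agent.ChevalleyStructure.TwF4.Rel (refl sp)
open Cfsg.Agent.ChevalleyStructure.TwF4.Torus (all_of)
open Cfsg.Agent.FourTwo.Base Cfsg.Agent.FourTwo.Comm Cfsg.Agent.FourTwo.BN Cfsg.Agent.FourTwo.Par
  Cfsg.Agent.FourTwo.Cent Cfsg.Agent.OddHalf.D9.FFour.AutLL

/-! ### the layers -/

/-- the positive roots `r` with `k ≤ min (r, bar r)` -/
def lv (k r : ℕ) : Bool := decide (24 ≤ r) && (decide (k ≤ r) && decide (k ≤ bar r))

theorem lv_iff {k r : ℕ} : lv k r = true ↔ 24 ≤ r ∧ k ≤ r ∧ k ≤ bar r := by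
  unfold lv
  simp only [Bool.and_eq_true, decide_eq_true_eq]

theorem bar_pos_tab : ((List.range 48).all fun r => decide (24 ≤ r) == decide (24 ≤ bar r)) = true := by
  decide +kernel

theorem bar_pos {r : ℕ} (hr : r < 48) (h : 24 ≤ r) : 24 ≤ bar r := by
  have h1 := all_of bar_pos_tab hr
  rw [beq_iff_eq, decide_eq_true h] at h1
  exact of_decide_eq_true h1.symm

theorem lv_bar {k r : ℕ} (hr : r < 48) (h : lv k r = true) : lv k (bar r) = true := by
  rw [lv_iff] at h ⊢
  rw [bar_bar hr]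
  exact ⟨bar_pos hr h.1, h.2.2, h.2.1⟩

theorem lv_succ {k r : ℕ} (h : lv (k + 1) r = true) : lv k r = true := by
  rw [lv_iff] at h ⊢
  exact ⟨h.1, by omega, by omega⟩

/-- the table of one layer -/
def okL (k : ℕ) : Bool :=
  closedB (lv k) && (!(decide (k < bar k)) ||
    (normB (fun r => r == k || r == bar k) (lv (k + 1)) && (cmg k (bar k)).all (lv (k + 1)) &&
      (cmg (bar k) k).all (lv (k + 1)) && decide (k + bar k ≠ 47)))

theorem okL_tab : ((List.range 24).all fun k => okL (24 + k)) = true := by decide +kernel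

theorem okL_of {k : ℕ} (h : 24 ≤ k) (h' : k < 48) : okL k = true := by
  have h1 := all_of okL_tab (show k - 24 < 24 by omega)
  rwa [Nat.add_sub_cancel' h] at h1

theorem closed_lv {k : ℕ} (h : 24 ≤ k) (h' : k < 48) : closedB (lv k) = true := by
  have := okL_of h h'
  unfold okL at this
  rw [Bool.and_eq_true] at this
  exact this.1

theorem closed_lv' {k : ℕ} (h : 24 ≤ k) (h' : k ≤ 48) : closedB (lv k) = true := by
  rcases Nat.lt_or_ge k 48 with h1 | h1
  · exact closed_lv h h1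
  · obtain rfl : k = 48 := by omega
    decide +kernel

theorem gr_mem {k : ℕ} {g : LL} (hg : g ∈ RG (lv k)) : gr g ∈ RG (lv k) := by
  have h : RG (lv k) ≤ (RG (lv k)).comap gr.toMonoidHom := RG_le fun r hr hP => by
    show gr (x r) ∈ RG (lv k)
    rw [gr_x hr]
    exact x_mem_RG (bar_lt hr) (lv_bar hr hP)
  exact h hg

theorem gr_U {g : LL} (hg : g ∈ U) : gr g ∈ U := by
  rw [U_eq] at hg ⊢
  have h : RG posP ≤ (RG posP).comap gr.toMonoidHom := RG_le fun r hr hP => by
    show gr (x r) ∈ RG posP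
    rw [gr_x hr]
    exact x_mem_RG (bar_lt hr) (decide_eq_true (bar_pos hr (of_decide_eq_true hP)))
  exact h hg

theorem lv_le_U {k : ℕ} : RG (lv k) ≤ U := RG_le fun _ hr h => x_mem_U (lv_iff.1 h).1 hr

/-- one layer -/
theorem split {k : ℕ} (h24 : 24 ≤ k) (h48 : k < 48) (hk : k < bar k) {g : LL} (hg : g ∈ RG (lv k)) :
    ∃ s u : LL, (s = 1 ∨ s = x k ∨ s = x (bar k) ∨ s = x k * x (bar k)) ∧ u ∈ RG (lv (k + 1)) ∧ g = s * u := by
  have hb := bar_lt h48
  have hok := okL_of h24 h48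
  unfold okL at hok
  rw [Bool.and_eq_true, decide_eq_true hk] at hok
  simp only [Bool.not_true, Bool.false_or, Bool.and_eq_true, decide_eq_true_eq] at hok
  obtain ⟨hcl, ⟨⟨hN, hc1⟩, hc2⟩, h47⟩ := hok
  have hxk : x k ∈ RG (fun r => r == k || r == bar k) := x_mem_RG h48 (by simp)
  have hxb : x (bar k) ∈ RG (fun r => r == k || r == bar k) := x_mem_RG hb (by simp)
  have hw1 : wd (cmg k (bar k)) ∈ RG (lv (k + 1)) := by
    refine wd_mem_RG fun r hr => ?_
    rw [List.all_eq_true] at hc1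
    exact ⟨(cmg_gt h24 h48 (bar_pos h48 h24) hb r hr).2.2, hc1 r hr⟩
  -- `x_{k'} x_k = x_k x_{k'} v`
  have hcomm : ∃ v ∈ RG (lv (k + 1)), x (bar k) * x k = x k * x (bar k) * v := by
    have h1 := comm_all h48 hb (by omega) h47
    -- `x_k x_b = x_b w x_k`, so `x_b x_k = x_k x_b (x_b x_k w⁻¹ ...)`
    refine ⟨(x k)⁻¹ * (wd (cmg k (bar k)))⁻¹ * x k, ?_, ?_⟩
    · have := conj_mem hN (inv_mem hxk) (inv_mem hw1)
      rwa [inv_inv] at this
    · calc x (bar k) * x k = x (bar k) * wd (cmg k (bar k)) * x k * ((x k)⁻¹ * (wd (cmg k (bar k)))⁻¹ * x k) := by group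
        _ = x k * x (bar k) * ((x k)⁻¹ * (wd (cmg k (bar k)))⁻¹ * x k) := by rw [← h1]
  obtain ⟨v, hv, hcomm⟩ := hcomm
  have hconj : ∀ {s : LL}, (s = 1 ∨ s = x k ∨ s = x (bar k) ∨ s = x k * x (bar k)) → ∀ {t : LL},
      t ∈ RG (lv (k + 1)) → s⁻¹ * t * s ∈ RG (lv (k + 1)) := by
    intro s hs t ht
    have hs' : s ∈ RG (fun r => r == k || r == bar k) := by
      rcases hs with rfl | rfl | rfl | rfl
      · exact one_mem _
      · exact hxk
      · exact hxb
      · exact mul_mem hxk hxb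
    have := conj_mem hN (inv_mem hs') ht
    rwa [inv_inv] at this
  have step : ∀ r < 48, lv k r = true → ∀ y : LL,
      (∃ s u : LL, (s = 1 ∨ s = x k ∨ s = x (bar k) ∨ s = x k * x (bar k)) ∧ u ∈ RG (lv (k + 1)) ∧ y = s * u) →
      ∃ s u : LL, (s = 1 ∨ s = x k ∨ s = x (bar k) ∨ s = x k * x (bar k)) ∧ u ∈ RG (lv (k + 1)) ∧ x r * y = s * u := by
    rintro r hr hr' _ ⟨s, u, hs, hu, rfl⟩
    rw [lv_iff] at hr'
    by_cases h1 : r = k
    · subst h1
      rcases hs with rfl | rfl | rfl | rfl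
      · exact ⟨x r, u, Or.inr (Or.inl rfl), hu, by simp⟩
      · exact ⟨1, u, Or.inl rfl, hu, by rw [← mul_assoc, x_mul_self]⟩
      · exact ⟨x r * x (bar r), u, Or.inr (Or.inr (Or.inr rfl)), hu, by rw [mul_assoc]⟩
      · exact ⟨x (bar r), u, Or.inr (Or.inr (Or.inl rfl)), hu, by
          rw [← mul_assoc, ← mul_assoc, x_mul_self, one_mul]⟩
    by_cases h2 : r = bar k
    · subst h2
      rcases hs with rfl | rfl | rfl | rfl
      · exact ⟨x (bar k), u, Or.inr (Or.inr (Or.inl rfl)), hu, by simp⟩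
      · refine ⟨x k * x (bar k), v * u, Or.inr (Or.inr (Or.inr rfl)), mul_mem hv hu, ?_⟩
        rw [← mul_assoc, hcomm, mul_assoc]
      · exact ⟨1, u, Or.inl rfl, hu, by rw [← mul_assoc, x_mul_self]⟩
      · have hv' : (x (bar k))⁻¹ * v * x (bar k) ∈ RG (lv (k + 1)) := hconj (s := x (bar k)) (by simp) hv
        refine ⟨x k, (x (bar k))⁻¹ * v * x (bar k) * u, Or.inr (Or.inl rfl), mul_mem hv' hu, ?_⟩
        calc x (bar k) * (x k * x (bar k) * u) = (x (bar k) * x k) * x (bar k) * u := by group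
          _ = x k * x (bar k) * v * x (bar k) * u := by rw [hcomm]
          _ = x k * (x (bar k) * x (bar k)) * ((x (bar k))⁻¹ * v * x (bar k) * u) := by group
          _ = x k * ((x (bar k))⁻¹ * v * x (bar k) * u) := by rw [x_mul_self, mul_one]
    · have h3 : lv (k + 1) r = true := by
        rw [lv_iff]
        refine ⟨hr'.1, by omega, ?_⟩
        have : bar r ≠ k := by
          intro h
          apply h2
          rw [← h, bar_bar hr]
        omega
      have h4 : x r ∈ RG (lv (k + 1)) := x_mem_RG hr h3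
      exact ⟨s, s⁻¹ * x r * s * u, hs, mul_mem (hconj hs h4) hu, by group⟩
  refine Subgroup.closure_induction_left
    (p := fun (g : LL) _ => ∃ s u : LL, (s = 1 ∨ s = x k ∨ s = x (bar k) ∨ s = x k * x (bar k)) ∧
      u ∈ RG (lv (k + 1)) ∧ g = s * u) ?_ ?_ ?_ hg
  · exact ⟨1, 1, Or.inl rfl, one_mem _, by simp⟩
  · rintro _ ⟨r, hr, hr', rfl⟩ y _ hy
    exact step r hr hr' y hy
  · rintro _ ⟨r, hr, hr', rfl⟩ y _ hy
    rw [x_inv]
    exact step r hr hr' y hy

theorem step {k : ℕ} (h24 : 24 ≤ k) (h48 : k < 48) {g : LL} (hg : g ∈ RG (lv k)) (h1 : g * gr g = 1) :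
    ∃ h ∈ U, h⁻¹ * g * gr h ∈ RG (lv (k + 1)) := by
  by_cases hk : k < bar k
  · have hb := bar_lt h48
    have hok := okL_of h24 h48
    unfold okL at hok
    rw [Bool.and_eq_true, decide_eq_true hk] at hok
    simp only [Bool.not_true, Bool.false_or, Bool.and_eq_true, decide_eq_true_eq] at hok
    obtain ⟨hcl, ⟨⟨hN, hc1⟩, hc2⟩, h47⟩ := hok
    have hxk : x k ∈ RG (fun r => r == k || r == bar k) := x_mem_RG h48 (by simp)
    have hxb : x (bar k) ∈ RG (fun r => r == k || r == bar k) := x_mem_RG hb (by simp)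
    have hno : x k * x (bar k) ∉ RG (lv (k + 1)) := by
      intro h
      have h2 := (mul_not_mem_RG (closed_lv' (by omega) (by omega)) h24 hb hk h).1
      rw [lv_iff] at h2
      omega
    have hw2 : wd (cmg (bar k) k) ∈ RG (lv (k + 1)) := by
      refine wd_mem_RG fun r hr => ?_
      rw [List.all_eq_true] at hc2
      exact ⟨(cmg_gt (bar_pos h48 h24) hb h24 h48 r hr).2.2, hc2 r hr⟩
    obtain ⟨s, u, hs, hu, rfl⟩ := split h24 h48 hk hg
    have hgu := gr_mem hu
    rcases hs with rfl | rfl | rfl | rfl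
    · exact ⟨1, one_mem _, by simpa using hu⟩
    · exfalso
      rw [map_mul, gr_x h48] at h1
      apply hno
      have h2 := conj_mem hN (inv_mem hxb) hu
      rw [inv_inv] at h2
      have h3 : x k * x (bar k) = ((x (bar k))⁻¹ * u * x (bar k) * gr u)⁻¹ := by
        rw [eq_inv_iff_mul_eq_one]
        calc x k * x (bar k) * ((x (bar k))⁻¹ * u * x (bar k) * gr u) = x k * u * (x (bar k) * gr u) := by group
          _ = 1 := h1
      rw [h3]
      exact inv_mem (mul_mem h2 hgu)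
    · exfalso
      rw [map_mul, gr_x hb, bar_bar h48] at h1
      apply hno
      have h2 := conj_mem hN (inv_mem hxk) hu
      rw [inv_inv] at h2
      have h3 : x (bar k) * x k = ((x k)⁻¹ * u * x k * gr u)⁻¹ := by
        rw [eq_inv_iff_mul_eq_one]
        calc x (bar k) * x k * ((x k)⁻¹ * u * x k * gr u) = x (bar k) * u * (x k * gr u) := by group
          _ = 1 := h1
      -- `x_k x_b = (x_b x_k)⁻¹`
      have h4 : x k * x (bar k) = (x k)⁻¹ * u * x k * gr u := by
        have h5 : x k * x (bar k) = (x (bar k) * x k)⁻¹ := by rw [mul_inv_rev, x_inv, x_inv]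
        rw [h5, h3, inv_inv]
      rw [h4]
      exact mul_mem h2 hgu
    · refine ⟨x k, x_mem_U h24 h48, ?_⟩
      rw [gr_x h48]
      have h2 := conj_mem hN (inv_mem hxb) hu
      rw [inv_inv] at h2
      have e : (x k)⁻¹ * (x k * x (bar k) * u) * x (bar k) = x (bar k) * x (bar k) * ((x (bar k))⁻¹ * u * x (bar k)) := by
        group
      rw [e, x_mul_self, one_mul]
      exact h2
  · -- the layer is empty
    refine ⟨1, one_mem _, ?_⟩
    rw [inv_one, one_mul, map_one, mul_one]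
    refine RG_mono (fun r hr h => ?_) hg
    rw [lv_iff] at h ⊢
    refine ⟨h.1, ?_, ?_⟩
    · rcases Nat.lt_or_ge k r with h2 | h2
      · exact h2
      · exfalso
        have h3 : r = k := by omega
        subst h3
        -- `bar k = k` is impossible
        have tab : ((List.range 48).all fun r => decide (bar r ≠ r)) = true := by decide +kernel
        have h4 := of_decide_eq_true (all_of tab hr)
        omega
    · rcases Nat.lt_or_ge k (bar r) with h2 | h2
      · exact h2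
      · exfalso
        have h3 : bar r = k := by omega
        apply hk
        rw [← h3, bar_bar hr]
        have tab : ((List.range 48).all fun r => decide (bar r ≠ r)) = true := by decide +kernel
        have h4 := of_decide_eq_true (all_of tab hr)
        omega

theorem gr_gr_apply (h : LL) : gr (gr h) = h := congrArg (fun f : MulAut LL => f h) gr_gr

theorem cob_aux (n : ℕ) : ∀ k : ℕ, 24 ≤ k → k + n = 48 → ∀ g ∈ RG (lv k), g * gr g = 1 →
    ∃ h ∈ U, g = h * (gr h)⁻¹ := by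
  induction n with
  | zero =>
    intro k _ hk g hg _
    have h0 : RG (lv k) = ⊥ := by
      rw [eq_bot_iff]
      exact RG_le fun r hr hp => absurd (lv_iff.1 hp).2.1 (by omega)
    rw [h0, Subgroup.mem_bot] at hg
    exact ⟨1, one_mem _, by rw [hg]; simp⟩
  | succ n ih =>
    intro k h24 hk g hg h1
    obtain ⟨h, hh, hm⟩ := step h24 (by omega) hg h1
    have h2 : h⁻¹ * g * gr h * gr (h⁻¹ * g * gr h) = 1 := by
      rw [map_mul, map_mul, map_inv, gr_gr_apply]
      calc h⁻¹ * g * gr h * ((gr h)⁻¹ * gr g * h) = h⁻¹ * (g * gr g) * h := by group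
        _ = 1 := by rw [h1]; group
    obtain ⟨h', hh', e⟩ := ih (k + 1) (by omega) (by omega) _ hm h2
    refine ⟨h * h', mul_mem hh hh', ?_⟩
    rw [map_mul]
    calc g = h * (h⁻¹ * g * gr h) * (gr h)⁻¹ := by group
      _ = h * (h' * (gr h')⁻¹) * (gr h)⁻¹ := by rw [e]
      _ = h * h' * (gr h * gr h')⁻¹ := by group

/-- `H¹(⟨gr⟩, U) = 1` -/
theorem exists_coboundary {g : LL} (hg : g ∈ U) (h1 : g * gr g = 1) : ∃ h ∈ U, g = h * (gr h)⁻¹ := by
  refine cob_aux 24 24 le_rfl rfl g ?_ h1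
  rw [U_eq] at hg
  refine RG_mono (fun r hr h => ?_) hg
  have : 24 ≤ r := of_decide_eq_true h
  exact lv_iff.2 ⟨this, this, bar_pos hr this⟩

/-! ### outer involutions -/

/-- `U` is self-normalising -/
theorem mem_U_of_normalizer {g : LL} (hg : g ∈ Subgroup.normalizer (U : Set LL)) : g ∈ U := by
  have h := parabolic_eq (H := Subgroup.normalizer (U : Set LL)) Subgroup.le_normalizer
  rw [h] at hg
  have h2 : Subgroup.closure {g | ∃ i < 4, n i ∈ Subgroup.normalizer (U : Set LL) ∧ g = n i} = ⊥ := by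
    rw [eq_bot_iff, Subgroup.closure_le]
    rintro _ ⟨i, hi, hn, rfl⟩
    exfalso
    have h1 := (Subgroup.mem_normalizer_iff.1 hn (x (sp i))).1 (x_mem_U sp_ge sp_lt')
    rw [n_conj_sp hi] at h1
    exact y_not_mem_U i h1
  rwa [h2, sup_bot_eq] at hg

/-- the centre of `LL` is trivial -/
theorem eq_one_of_central {g : LL} (h : ∀ y, g * y = y * g) : g = 1 := by
  have h1 : g ∈ U := mem_U_of_normalizer (by
    rw [Subgroup.mem_normalizer_iff]
    intro y
    rw [h y, mul_inv_cancel_right])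
  have h2 : g = w0 * g * w0⁻¹ := by rw [← h w0, mul_inv_cancel_right]
  refine eq_one_of h1 ?_
  rw [h2]
  exact w0_U h1

theorem conj_eq_one {g : LL} (h : MulAut.conj g = 1) : g = 1 := eq_one_of_central fun y => by
  have h1 : g * y * g⁻¹ = y := by
    have := congrArg (fun f : MulAut LL => f y) h
    exact this
  rw [mul_inv_eq_iff_eq_mul] at h1
  exact h1

theorem conj_mul_aut (β : MulAut LL) (g : LL) : β * MulAut.conj g = MulAut.conj (β g) * β := by
  ext1 y
  show β (g * y * g⁻¹) = β g * β y * (β g)⁻¹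
  rw [map_mul, map_mul, map_inv]

/-- an automorphism of order two fixes a Sylow 2-subgroup -/
theorem exists_fix_of_sq {β : MulAut LL} (hβ : β * β = 1) : ∃ y : LL, Fix (MulAut.conj y * β * (MulAut.conj y)⁻¹) U := by
  classical
  have : Fact (Nat.Prime 2) := ⟨Nat.prime_two⟩
  have hD : IsPGroup 2 (Subgroup.zpowers β) := by
    rintro ⟨h, hh⟩
    obtain ⟨k, rfl⟩ := Subgroup.mem_zpowers_iff.1 hh
    refine ⟨1, Subtype.ext ?_⟩
    show (β ^ k) ^ (2 ^ 1) = 1
    rw [pow_one, sq, ← zpow_add, ← two_mul, zpow_mul]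
    have h3 : β ^ (2 : ℤ) = 1 := by rw [zpow_two, hβ]
    rw [h3, one_zpow]
  have hnot : ¬ 2 ∣ Nat.card (Sylow 2 LL) := by
    have h := card_sylow_modEq_one 2 LL
    intro hd
    have h2 := (Nat.modEq_zero_iff_dvd.2 hd)
    have h3 := h.symm.trans h2
    exact absurd h3 (by decide)
  obtain ⟨S, hS⟩ := hD.nonempty_fixed_point_of_prime_not_dvd_card (Sylow 2 LL) hnot
  have hS' : β • S = S := by
    have := hS ⟨β, Subgroup.mem_zpowers β⟩
    exact this
  have hSm : ∀ g ∈ (S : Subgroup LL), β g ∈ (S : Subgroup LL) := by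
    intro g hg
    have h1 : β g ∈ ((β • S : Sylow 2 LL) : Subgroup LL) := by
      rw [Sylow.pointwise_smul_def]
      exact Subgroup.smul_mem_pointwise_smul g β _ hg
    rwa [hS'] at h1
  obtain ⟨y, hy⟩ := MulAction.exists_smul_eq LL S Cfsg.Agent.FourTwo.Classes.US
  have hyU : ∀ g, y * g * y⁻¹ ∈ U ↔ g ∈ (S : Subgroup LL) := by
    intro g
    have h1 : (U : Subgroup LL) = ((y • S : Sylow 2 LL) : Subgroup LL) := by
      rw [hy]; rfl
    rw [h1, Sylow.coe_subgroup_smul]
    constructor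
    · rintro ⟨g', hg', e⟩
      have e' : y * g' * y⁻¹ = y * g * y⁻¹ := e
      have : g' = g := by
        have := mul_right_cancel e'
        exact mul_left_cancel this
      rwa [← this]
    · intro hg
      exact ⟨g, hg, rfl⟩
  refine ⟨y, fix_of_le fun g hg => ?_⟩
  show y * β (y⁻¹ * g * y⁻¹⁻¹) * y⁻¹ ∈ U
  rw [hyU]
  apply hSm
  rw [← hyU]
  rw [inv_inv]
  have e : y * (y⁻¹ * g * y) * y⁻¹ = g := by group
  rwa [e]

/-- **The outer involutions of `Aut(F₄(2))` are conjugate to the graph automorphism.** -/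
theorem exists_conj_gr {β : MulAut LL} (hβ : β * β = 1) (hout : ∀ g : LL, β ≠ MulAut.conj g) :
    ∃ h : LL, MulAut.conj h * β * (MulAut.conj h)⁻¹ = gr := by
  obtain ⟨y, hy⟩ := exists_fix_of_sq hβ
  set β' := MulAut.conj y * β * (MulAut.conj y)⁻¹ with hβ'
  have hsq : β' * β' = 1 := by
    calc β' * β' = MulAut.conj y * (β * β) * (MulAut.conj y)⁻¹ := by rw [hβ']; group
      _ = 1 := by rw [hβ]; group
  obtain ⟨g, hg | hg⟩ := exists_aut β'
  · exfalso
    apply hout (y⁻¹ * g * y)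
    rw [map_mul, map_mul, ← hg, hβ', map_inv]
    group
  · -- `g ∈ N(U) = U`
    have hgU : g ∈ U := mem_U_of_normalizer (by
      rw [Subgroup.mem_normalizer_iff]
      intro u
      have h1 := hy (gr u)
      have h2 : β' (gr u) = g * u * g⁻¹ := by
        rw [hg]
        show g * gr (gr u) * g⁻¹ = g * u * g⁻¹
        rw [gr_gr_apply]
      rw [h2] at h1
      constructor
      · intro hu
        exact h1.2 (gr_U hu)
      · intro hu
        have h3 := gr_U (h1.1 hu)
        rwa [gr_gr_apply] at h3)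
    have h1 : g * gr g = 1 := by
      apply conj_eq_one
      calc MulAut.conj (g * gr g) = MulAut.conj g * (MulAut.conj (gr g) * gr) * gr⁻¹ := by
            rw [map_mul]; group
        _ = MulAut.conj g * (gr * MulAut.conj g) * gr⁻¹ := by rw [conj_mul_aut]
        _ = (MulAut.conj g * gr) * (MulAut.conj g * gr) * (gr * gr)⁻¹ := by group
        _ = 1 := by rw [← hg, hsq, gr_gr]; group
    obtain ⟨h, -, e⟩ := exists_coboundary hgU h1
    refine ⟨h⁻¹ * y, ?_⟩
    have h3 : gr * (MulAut.conj h)⁻¹ = MulAut.conj (gr h)⁻¹ * gr := by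
      rw [← map_inv MulAut.conj, conj_mul_aut, map_inv gr]
    have h2 : β' = MulAut.conj h * gr * (MulAut.conj h)⁻¹ := by
      rw [mul_assoc, h3, ← mul_assoc, ← map_mul, ← e]
      exact hg
    calc MulAut.conj (h⁻¹ * y) * β * (MulAut.conj (h⁻¹ * y))⁻¹ = (MulAut.conj h)⁻¹ * β' * MulAut.conj h := by
          rw [hβ', map_mul, map_inv]; group
      _ = gr := by rw [h2]; group

end Cfsg.Agent.OddHalf.D9.FFour.HOne

end

-- merged: Cfsg.Agent.OddHalf.D9.FFour.Out
section

/-!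
# The automorphisms of a perfect central extension `K` of `F₄(2)`

`E : Ext π`, `π : K →* LL`.

* `exists_ind`: every automorphism of `K` induces one of `LL`;
* `exists_inner`: if the induced automorphism is inner then the automorphism is (`K` perfect);
* `outsq`: squares of automorphisms are inner;
* `exists_std`: an automorphism of order two which is not inner is conjugate to one with `A r ↦ A (bar r)`;
* `out`: the field `out` of `Def.Facts`.
-/

set_option autoImplicit false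

namespace Cfsg.Agent.OddHalf.D9.FFour.Out

open Subgroup Cfsg.Agent.FourTwo.Base Cfsg.Agent.FourTwo.Comm Cfsg.Agent.FourTwo.BN Cfsg.Agent.FourTwo.Lift
open Cfsg.Agent.OddHalf.D9.FFour.AutLL Cfsg.Agent.OddHalf.D9.FFour.HOne Cfsg.Agent.OddHalf.D9.FFour.Def
open Cfsg.Agent.ChevalleyStructure.TwF4.Torus (all_of)
open scoped commutatorElement

variable {K : Type*} [Group K] {π : K →* LL}

/-- the kernel is the centre -/
theorem ker_iff (E : Ext π) {k : K} : π k = 1 ↔ ∀ y, k * y = y * k := by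
  constructor
  · exact E.cen k
  · intro h
    refine eq_one_of_central fun y => ?_
    obtain ⟨y, rfl⟩ := E.surj y
    rw [← map_mul, h y, map_mul]

theorem aut_ker (E : Ext π) (α : MulAut K) {k : K} (hk : π k = 1) : π (α k) = 1 := by
  rw [ker_iff E] at hk ⊢
  intro y
  obtain ⟨y, rfl⟩ := α.surjective y
  rw [← map_mul, hk y, map_mul]

theorem aut_congr (E : Ext π) (α : MulAut K) {a b : K} (h : π a = π b) : π (α a) = π (α b) := by
  obtain ⟨m, hm, rfl⟩ := E.eq_of h
  rw [map_mul, map_mul, aut_ker E α hm, one_mul]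

/-- every automorphism of `K` induces an automorphism of `LL` -/
theorem exists_ind (E : Ext π) (α : MulAut K) : ∃ β : MulAut LL, ∀ k, π (α k) = β (π k) := by
  have key : ∀ (α : MulAut K) (k : K), π (α (E.lf (π k))) = π (α k) := fun α k =>
    aut_congr E α (E.map_lf _)
  refine ⟨{ toFun := fun g => π (α (E.lf g))
            invFun := fun g => π (α⁻¹ (E.lf g))
            left_inv := fun g => ?_
            right_inv := fun g => ?_
            map_mul' := fun g h => ?_ }, fun k => (key α k).symm⟩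
  · show π (α⁻¹ (E.lf (π (α (E.lf g))))) = g
    rw [key, MulAut.inv_apply_self, E.map_lf]
  · show π (α (E.lf (π (α⁻¹ (E.lf g))))) = g
    rw [key, MulAut.apply_inv_self, E.map_lf]
  · show π (α (E.lf (g * h))) = π (α (E.lf g)) * π (α (E.lf h))
    rw [← map_mul, ← map_mul]
    refine aut_congr E α ?_
    rw [E.map_lf, map_mul, E.map_lf, E.map_lf]

/-- two automorphisms of a perfect `K` inducing the same automorphism are equal -/
theorem eq_of_ind (E : Ext π) (hK : ⁅(⊤ : Subgroup K), (⊤ : Subgroup K)⁆ = ⊤) {α α' : MulAut K}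
    (h : ∀ k, π (α k) = π (α' k)) : α = α' := by
  have h1 : ∀ k, ∃ m, (∀ g, m * g = g * m) ∧ α k = m * α' k := by
    intro k
    obtain ⟨m, hm, e⟩ := E.eq_of (h k)
    exact ⟨m, E.cen m hm, e⟩
  have h2 : (⊤ : Subgroup K) ≤ (α.toMonoidHom).eqLocus α'.toMonoidHom := by
    rw [← hK, commutator_le]
    intro a _ b _
    show α ⁅a, b⁆ = α' ⁅a, b⁆
    obtain ⟨m, hm, e⟩ := h1 a
    obtain ⟨m', hm', e'⟩ := h1 b
    rw [commutatorElement_def, map_mul, map_mul, map_mul, map_inv, map_inv, e, e', map_mul, map_mul, map_mul,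
      map_inv, map_inv]
    exact comm_norm hm hm'
  ext1 k
  exact h2 (mem_top k)

/-- if the induced automorphism is inner then the automorphism is inner -/
theorem exists_inner (E : Ext π) (hK : ⁅(⊤ : Subgroup K), (⊤ : Subgroup K)⁆ = ⊤) {α : MulAut K} {g : LL}
    (h : ∀ k, π (α k) = g * π k * g⁻¹) : ∃ k, α = MulAut.conj k := by
  obtain ⟨k, rfl⟩ := E.surj g
  refine ⟨k, eq_of_ind E hK fun x => ?_⟩
  rw [h, MulAut.conj_apply, map_mul, map_mul, map_inv]

/-- **`Out(K)` has exponent two.** -/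
theorem outsq (E : Ext π) (hK : ⁅(⊤ : Subgroup K), (⊤ : Subgroup K)⁆ = ⊤) (α : MulAut K) :
    ∃ k, ∀ x, α (α x) = k * x * k⁻¹ := by
  obtain ⟨β, hβ⟩ := exists_ind E α
  have h1 : ∃ g : LL, β * β = MulAut.conj g := by
    obtain ⟨g, rfl | rfl⟩ := exists_aut β
    · exact ⟨g * g, by rw [map_mul]⟩
    · refine ⟨g * gr g, ?_⟩
      calc MulAut.conj g * gr * (MulAut.conj g * gr) = MulAut.conj g * (gr * MulAut.conj g) * gr := by group
        _ = MulAut.conj g * (MulAut.conj (gr g) * gr) * gr := by rw [conj_mul_aut]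
        _ = MulAut.conj g * MulAut.conj (gr g) * (gr * gr) := by group
        _ = MulAut.conj (g * gr g) := by rw [gr_gr, mul_one, map_mul]
  obtain ⟨g, hg⟩ := h1
  obtain ⟨k, hk⟩ := exists_inner E hK (α := α * α) (g := g) fun k => by
    show π (α (α k)) = g * π k * g⁻¹
    rw [hβ, hβ]
    exact congrArg (fun f : MulAut LL => f (π k)) hg
  refine ⟨k, fun x => ?_⟩
  exact congrArg (fun f : MulAut K => f x) hk

/-- the relations with one letter are invariant under `bar` -/
theorem bar_one_tab : ((List.range 48).all fun r => (List.range 48).all fun s =>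
    match cmg r s with
    | [t] => cmg (bar r) (bar s) == [bar t]
    | _ => true) = true := by decide +kernel

theorem bar_one {r s t : ℕ} (hr : r < 48) (hs : s < 48) (h : cmg r s = [t]) : cmg (bar r) (bar s) = [bar t] := by
  have h1 := all_of (all_of bar_one_tab hr) hs
  rw [h] at h1
  exact beq_iff_eq.1 h1

theorem cmg_lt_tab : ((List.range 48).all fun r => (List.range 48).all fun s => (cmg r s).all fun p => decide (p < 48)) =
    true := by decide +kernel

theorem cmg_lt {r s t : ℕ} (hr : r < 48) (hs : s < 48) (h : cmg r s = [t]) : t < 48 := by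
  have h1 := all_of (all_of cmg_lt_tab hr) hs
  rw [h] at h1
  simpa using h1

/-- an automorphism over the graph automorphism maps `A r` to `A (bar r)` -/
theorem map_A_of_gr (E : Ext π) {α : MulAut K} (h : ∀ k, π (α k) = gr (π k)) {r : ℕ} (hr : r < 48) :
    α (E.A r) = E.A (bar r) := by
  have h1 := E.A_unique (B := fun r => α (E.A (bar r))) (fun r hr => by
    show π (α (E.A (bar r))) = x r
    rw [h, E.map_A (bar_lt hr), gr_x (bar_lt hr), bar_bar hr]) (fun r hr s hs t hst => by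
    show α (E.A (bar r)) * α (E.A (bar s)) * (α (E.A (bar r)))⁻¹ * (α (E.A (bar s)))⁻¹ = α (E.A (bar t))
    rw [← E.rel_one (bar_lt hr) (bar_lt hs) (bar_one hr hs hst)]
    simp only [map_mul, map_inv]) (bar_lt hr)
  have h2 : α (E.A (bar (bar r))) = E.A (bar r) := h1
  rwa [bar_bar hr] at h2

theorem conj_aut {Y : Type*} [Group Y] (k : Y) (α : MulAut Y) (y : Y) :
    (MulAut.conj k * α * (MulAut.conj k)⁻¹) y = k * α (k⁻¹ * y * k) * k⁻¹ := by
  rw [MulAut.mul_apply, MulAut.mul_apply, MulAut.conj_apply, MulAut.conj_inv_apply]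

/-- **Outer involutions.** -/
theorem exists_std (E : Ext π) (hK : ⁅(⊤ : Subgroup K), (⊤ : Subgroup K)⁆ = ⊤) {α : MulAut K} (h2 : α * α = 1)
    (hout : ∀ k, α ≠ MulAut.conj k) :
    ∃ k : K, (∀ x, π ((MulAut.conj k * α * (MulAut.conj k)⁻¹) x) = gr (π x)) ∧
      ∀ r < 48, (MulAut.conj k * α * (MulAut.conj k)⁻¹) (E.A r) = E.A (bar r) := by
  obtain ⟨β, hβ⟩ := exists_ind E α
  have hββ : β * β = 1 := by
    ext1 y
    obtain ⟨y, rfl⟩ := E.surj y
    show β (β (π y)) = π y
    have h3 : α (α y) = y := congrArg (fun f : MulAut K => f y) h2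
    rw [← hβ, ← hβ, h3]
  have hβout : ∀ g : LL, β ≠ MulAut.conj g := by
    intro g hg
    obtain ⟨k, hk⟩ := exists_inner E hK (α := α) (g := g) fun k => by
      rw [hβ, hg, MulAut.conj_apply]
    exact hout k hk
  obtain ⟨h, hh⟩ := exists_conj_gr hββ hβout
  obtain ⟨k, rfl⟩ := E.surj h
  have h1 : ∀ x, π ((MulAut.conj k * α * (MulAut.conj k)⁻¹) x) = gr (π x) := by
    intro x
    rw [← hh, conj_aut, conj_aut]
    simp only [map_mul, map_inv, hβ]
  exact ⟨k, h1, fun r hr => map_A_of_gr E h1 hr⟩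

/-- the commutator in the diagonal `S₃` -/
theorem mem_O2_of_std (E : Ext π) {α : MulAut K} (hα : ∀ r < 48, α (E.A r) = E.A (bar r)) {z : K}
    (hker : ∀ m, π m = 1 → m = 1 ∨ m = z) (hzz : z * z = 1) (hαz : α z = z) : E.A 44 * E.A 47 ∈ O2 (fix α) := by
  have c : ∀ {r s : ℕ}, r < 48 → s < 48 → comB r s = true → E.A r * E.A s = E.A s * E.A r := fun hr hs h => E.A_comm hr hs h
  -- the four letters
  have c1 : E.A 24 * E.A 33 = E.A 33 * E.A 24 := c (by omega) (by omega) (by decide +kernel)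
  have c2 : E.A 24 * E.A 14 = E.A 14 * E.A 24 := c (by omega) (by omega) (by decide +kernel)
  have c3 : E.A 23 * E.A 33 = E.A 33 * E.A 23 := c (by omega) (by omega) (by decide +kernel)
  have c4 : E.A 23 * E.A 14 = E.A 14 * E.A 23 := c (by omega) (by omega) (by decide +kernel)
  set t := E.A 24 * E.A 23 with ht
  set t' := E.A 33 * E.A 14 with ht'
  have hαt : α t = t' := by
    rw [ht, ht', map_mul, hα 24 (by omega), hα 23 (by omega)]
    rfl
  have hαt' : α t' = t := by
    rw [ht, ht', map_mul, hα 33 (by omega), hα 14 (by omega)]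
    rfl
  have htt : t * t' = t' * t := by
    calc t * t' = E.A 24 * (E.A 23 * E.A 33) * E.A 14 := by rw [ht, ht']; group
      _ = (E.A 24 * E.A 33) * (E.A 23 * E.A 14) := by rw [c3]; group
      _ = E.A 33 * (E.A 24 * E.A 14) * E.A 23 := by rw [c1, c4]; group
      _ = t' * t := by rw [c2, ht, ht']; group
  -- `t³` is central of order at most two
  have h3 : π (t ^ 3) = 1 := by
    rw [map_pow, ht, map_mul, E.map_A (by omega), E.map_A (by omega)]
    have hb := opp_all (r := 24) (by omega)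
    rw [show 47 - 24 = 23 from rfl] at hb
    calc (x 24 * x 23) ^ 3 = (x 24 * x 23 * x 24) * (x 23 * x 24 * x 23) := by
          rw [pow_three]; group
      _ = (x 24 * x 23 * x 24) * (x 24 * x 23 * x 24) := by rw [← hb]
      _ = x 24 * x 23 * (x 24 * x 24) * x 23 * x 24 := by group
      _ = x 24 * (x 23 * x 23) * x 24 := by rw [x_mul_self]; group
      _ = 1 := by rw [x_mul_self, mul_one, x_mul_self]
  have h3' : t' ^ 3 = t ^ 3 := by
    have h4 : α (t ^ 3) = t ^ 3 := by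
      rcases hker _ h3 with h | h
      · rw [h, map_one]
      · rw [h, hαz]
    rw [map_pow, hαt] at h4
    exact h4
  have hw3 : (t * t') ^ 3 = 1 := by
    have hc : Commute t t' := htt
    rw [hc.mul_pow, h3']
    rcases hker _ h3 with h | h
    · rw [h, mul_one]
    · rw [h, hzz]
  have hwfix : t * t' ∈ fix α := by
    rw [mem_fix, map_mul, hαt, hαt', htt]
  have hwO : t * t' ∈ O2 (fix α) := by
    refine mem_O2_of_odd hwfix ?_
    have h5 : orderOf (t * t') ∣ 3 := orderOf_dvd_of_pow_eq_one hw3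
    rcases (Nat.dvd_prime Nat.prime_three).1 h5 with h | h
    · rw [h]; decide
    · rw [h]; decide
  -- the element `y = A 46 * A 40`
  have d1 : E.A 46 * E.A 40 = E.A 40 * E.A 46 := c (by omega) (by omega) (by decide +kernel)
  have hyfix : E.A 46 * E.A 40 ∈ fix α := by
    rw [mem_fix, map_mul, hα 46 (by omega), hα 40 (by omega)]
    exact d1.symm
  have hcomm : t * t' * ((E.A 46 * E.A 40) * (t * t')⁻¹ * (E.A 46 * E.A 40)⁻¹) ∈ O2 (fix α) :=
    mul_mem hwO (O2_normal hyfix (inv_mem hwO))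
  -- the action of `t` and `t'`
  have r1 : E.A 24 * E.A 46 * (E.A 24)⁻¹ * (E.A 46)⁻¹ = E.A 47 := E.rel_one (by omega) (by omega) (by decide +kernel)
  have r2 : E.A 33 * E.A 40 * (E.A 33)⁻¹ * (E.A 40)⁻¹ = E.A 44 := E.rel_one (by omega) (by omega) (by decide +kernel)
  have e1 : E.A 23 * E.A 46 = E.A 46 * E.A 23 := c (by omega) (by omega) (by decide +kernel)
  have e2 : E.A 14 * E.A 40 = E.A 40 * E.A 14 := c (by omega) (by omega) (by decide +kernel)
  have e3 : E.A 24 * E.A 40 = E.A 40 * E.A 24 := c (by omega) (by omega) (by decide +kernel)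
  have e4 : E.A 23 * E.A 40 = E.A 40 * E.A 23 := c (by omega) (by omega) (by decide +kernel)
  have e5 : E.A 33 * E.A 46 = E.A 46 * E.A 33 := c (by omega) (by omega) (by decide +kernel)
  have e6 : E.A 14 * E.A 46 = E.A 46 * E.A 14 := c (by omega) (by omega) (by decide +kernel)
  have e7 : E.A 24 * E.A 47 = E.A 47 * E.A 24 := c (by omega) (by omega) (by decide +kernel)
  have e8 : E.A 33 * E.A 47 = E.A 47 * E.A 33 := c (by omega) (by omega) (by decide +kernel)
  have e9 : E.A 14 * E.A 47 = E.A 47 * E.A 14 := c (by omega) (by omega) (by decide +kernel)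
  have e10 : E.A 46 * E.A 44 = E.A 44 * E.A 46 := c (by omega) (by omega) (by decide +kernel)
  have e11 : E.A 44 * E.A 47 = E.A 47 * E.A 44 := c (by omega) (by omega) (by decide +kernel)
  have ft : t * E.A 46 * t⁻¹ = E.A 47 * E.A 46 := by
    calc t * E.A 46 * t⁻¹ = E.A 24 * (E.A 23 * E.A 46) * (E.A 23)⁻¹ * (E.A 24)⁻¹ := by rw [ht]; group
      _ = (E.A 24 * E.A 46 * (E.A 24)⁻¹ * (E.A 46)⁻¹) * E.A 46 := by rw [e1]; group
      _ = E.A 47 * E.A 46 := by rw [r1]
  have ft' : t' * E.A 40 * t'⁻¹ = E.A 44 * E.A 40 := by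
    calc t' * E.A 40 * t'⁻¹ = E.A 33 * (E.A 14 * E.A 40) * (E.A 14)⁻¹ * (E.A 33)⁻¹ := by rw [ht']; group
      _ = (E.A 33 * E.A 40 * (E.A 33)⁻¹ * (E.A 40)⁻¹) * E.A 40 := by rw [e2]; group
      _ = E.A 44 * E.A 40 := by rw [r2]
  have gt : t * E.A 40 * t⁻¹ = E.A 40 := by
    calc t * E.A 40 * t⁻¹ = E.A 24 * (E.A 23 * E.A 40) * (E.A 23)⁻¹ * (E.A 24)⁻¹ := by rw [ht]; group
      _ = E.A 24 * E.A 40 * (E.A 24)⁻¹ := by rw [e4]; group
      _ = E.A 40 := by rw [e3]; group
  have gt2 : t' * E.A 46 * t'⁻¹ = E.A 46 := by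
    calc t' * E.A 46 * t'⁻¹ = E.A 33 * (E.A 14 * E.A 46) * (E.A 14)⁻¹ * (E.A 33)⁻¹ := by rw [ht']; group
      _ = E.A 33 * E.A 46 * (E.A 33)⁻¹ := by rw [e6]; group
      _ = E.A 46 := by rw [e5]; group
  have gt3 : t' * E.A 47 * t'⁻¹ = E.A 47 := by
    calc t' * E.A 47 * t'⁻¹ = E.A 33 * (E.A 14 * E.A 47) * (E.A 14)⁻¹ * (E.A 33)⁻¹ := by rw [ht']; group
      _ = E.A 33 * E.A 47 * (E.A 33)⁻¹ := by rw [e9]; group
      _ = E.A 47 := by rw [e8]; group
  have key : t * t' * (E.A 46 * E.A 40) * (t * t')⁻¹ = E.A 44 * E.A 47 * (E.A 46 * E.A 40) := by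
    calc t * t' * (E.A 46 * E.A 40) * (t * t')⁻¹ = t' * (t * (E.A 46 * E.A 40) * t⁻¹) * t'⁻¹ := by
          rw [htt]; group
      _ = t' * ((t * E.A 46 * t⁻¹) * (t * E.A 40 * t⁻¹)) * t'⁻¹ := by group
      _ = t' * (E.A 47 * E.A 46 * E.A 40) * t'⁻¹ := by rw [ft, gt]
      _ = (t' * E.A 47 * t'⁻¹) * (t' * E.A 46 * t'⁻¹) * (t' * E.A 40 * t'⁻¹) := by group
      _ = E.A 47 * (E.A 46 * E.A 44) * E.A 40 := by rw [gt3, gt2, ft']; group
      _ = E.A 44 * E.A 47 * (E.A 46 * E.A 40) := by rw [e10, e11]; group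
  have e : E.A 44 * E.A 47 = t * t' * ((E.A 46 * E.A 40) * (t * t')⁻¹ * (E.A 46 * E.A 40)⁻¹) := by
    calc E.A 44 * E.A 47 = E.A 44 * E.A 47 * (E.A 46 * E.A 40) * (E.A 46 * E.A 40)⁻¹ := by group
      _ = (t * t' * (E.A 46 * E.A 40) * (t * t')⁻¹) * (E.A 46 * E.A 40)⁻¹ := by rw [key]
      _ = _ := by group
  rw [e]
  exact hcomm

/-- **The field `out` of `Def.Facts`.** -/
theorem out (E : Ext π) (hK : ⁅(⊤ : Subgroup K), (⊤ : Subgroup K)⁆ = ⊤) {z : K}
    (hker : ∀ m, π m = 1 ↔ m = 1 ∨ m = z) (hz : z ≠ 1) (hzz : z * z = 1) {α : MulAut K}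
    (h2 : ∀ x, α (α x) = x) (hout : ∀ k, ∃ x, α x ≠ k * x * k⁻¹) :
    ∃ k, α k * k⁻¹ ≠ 1 ∧ α k * k⁻¹ ∈ O2 (fix α) := by
  obtain ⟨k, -, hk⟩ := exists_std E hK (α := α) (by ext1 y; exact h2 y) (by
    intro k hk
    obtain ⟨y, hy⟩ := hout k
    exact hy (congrArg (fun f : MulAut K => f y) hk))
  set α' := MulAut.conj k * α * (MulAut.conj k)⁻¹ with hα'
  have hαz : ∀ γ : MulAut K, γ z = z := by
    intro γ
    have h3 := aut_ker E γ ((hker z).2 (Or.inr rfl))
    rcases (hker _).1 h3 with h4 | h4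
    · exact absurd (γ.injective (by rw [h4, map_one])) hz
    · exact h4
  have h1 := mem_O2_of_std E (α := α') hk (fun m hm => (hker m).1 hm) hzz (hαz α')
  -- go back to `α`
  have hfix : (fix α').map (MulAut.conj k⁻¹).toMonoidHom = fix α := by
    ext y
    constructor
    · rintro ⟨w, hw, rfl⟩
      have hw' : α' w = w := hw
      rw [hα', conj_aut] at hw'
      have e0 : (MulAut.conj k⁻¹).toMonoidHom w = k⁻¹ * w * k := by
        show k⁻¹ * w * k⁻¹⁻¹ = _
        rw [inv_inv]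
      rw [e0, mem_fix]
      have : α (k⁻¹ * w * k) = k⁻¹ * (k * α (k⁻¹ * w * k) * k⁻¹) * k := by group
      rw [this, hw']
    · intro hy
      have hy' : α y = y := hy
      refine ⟨k * y * k⁻¹, ?_, ?_⟩
      · have h5 : α' (k * y * k⁻¹) = k * y * k⁻¹ := by
          rw [hα', conj_aut]
          have : k⁻¹ * (k * y * k⁻¹) * k = y := by group
          rw [this, hy']
        exact h5
      · show k⁻¹ * (k * y * k⁻¹) * k⁻¹⁻¹ = y
        group
  have e : α (k⁻¹ * E.A 47 * k) * (k⁻¹ * E.A 47 * k)⁻¹ = (MulAut.conj k⁻¹).toMonoidHom (E.A 44 * E.A 47) := by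
    have h4 := hk 47 (by omega)
    rw [hα', conj_aut, show bar 47 = 44 from rfl] at h4
    have h5 : α (k⁻¹ * E.A 47 * k) = k⁻¹ * E.A 44 * k := by rw [← h4]; group
    show _ = k⁻¹ * (E.A 44 * E.A 47) * k⁻¹⁻¹
    rw [h5]
    have h6 : (E.A 47)⁻¹ = E.A 47 := E.A_inv (by omega)
    calc k⁻¹ * E.A 44 * k * (k⁻¹ * E.A 47 * k)⁻¹ = k⁻¹ * (E.A 44 * (E.A 47)⁻¹) * k := by group
      _ = k⁻¹ * (E.A 44 * E.A 47) * k⁻¹⁻¹ := by rw [h6, inv_inv]
  refine ⟨k⁻¹ * E.A 47 * k, ?_, ?_⟩
  · rw [e]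
    intro h3
    have h4 : E.A 44 * E.A 47 = 1 := (MulAut.conj k⁻¹).injective (by rw [map_one]; exact h3)
    have h5 := congrArg π h4
    rw [map_mul, E.map_A (by omega), E.map_A (by omega), map_one] at h5
    have h6 : x 44 = x 47 := by rw [← x_inv 47]; exact eq_inv_of_mul_eq_one_left h5
    have := x_inj (by omega) (by omega) h6
    omega
  · rw [e, ← hfix, map_O2 (f := (MulAut.conj k⁻¹).toMonoidHom) (MulAut.conj k⁻¹).injective]
    exact ⟨_, h1, rfl⟩

end Cfsg.Agent.OddHalf.D9.FFour.Out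

end
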